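import Groth.Agent.QFCount.FinitePart
import Mathlib.RingTheory.Henselian
import Mathlib.AlgebraicGeometry.ZariskisMainTheorem

/-!
The local ring at a point isolated in the closed fibre over a complete local ring.
-/

set_option autoImplicit false
set_option linter.style.haveILetI false
set_option backward.isDefEq.respectTransparency false
set_option backward.isDefEq.respectTransparency.types false

universe u

open AlgebraicGeometry CategoryTheory CategoryTheory.Limits IsLocalRing Topology

namespace Groth.Agent.CplSplit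

theorem henselianLocalRing_of_complete (A : Type u) [CommRing A] [IsLocalRing A]
    [IsAdicComplete (maximalIdeal A) A] : HenselianLocalRing A where
  is_henselian f hf a₀ h₁ h₂ := HenselianRing.is_henselian (I := maximalIdeal A) f hf a₀ h₁ (h₂.map _)

/-- An affine open whose only closed point is `x` is the spectrum of the local ring at `x`. -/
theorem isIso_germ {X : Scheme.{u}} {W : X.Opens} (hW : IsAffineOpen W) {x : X} (hx : x ∈ W)
    (h : ∀ w : W.toScheme, IsClosed ({w} : Set W.toScheme) → w.1 = x) :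
    IsIso (X.presheaf.germ W x hx) := by
  have := hW.isLocalization_stalk ⟨x, hx⟩
  have hu : (hW.primeIdealOf ⟨x, hx⟩).asIdeal.primeCompl ≤ IsUnit.submonoid Γ(X, W) := by
    intro a ha
    by_contra hna
    obtain ⟨q, hq, haq⟩ := exists_max_ideal_of_mem_nonunits (mem_nonunits_iff.2 hna)
    let p : PrimeSpectrum Γ(X, W) := ⟨q, hq.isPrime⟩
    have hcl : IsClosed ({hW.isoSpec.inv p} : Set W.toScheme) := by
      have h1 : IsClosed ({p} : Set (PrimeSpectrum Γ(X, W))) :=
        (PrimeSpectrum.isClosed_singleton_iff_isMaximal p).2 hq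
      have := hW.isoSpec.inv.homeomorph.isClosedMap _ h1
      rwa [Set.image_singleton] at this
    have e : hW.isoSpec.inv p = (⟨x, hx⟩ : W.toScheme) := Subtype.ext (h _ hcl)
    have e' : p = hW.primeIdealOf ⟨x, hx⟩ := by
      show p = hW.isoSpec.hom ⟨x, hx⟩
      rw [← e, ← Scheme.Hom.comp_apply, Iso.inv_hom_id]; rfl
    exact ha (e' ▸ haq)
  letI := TopCat.Presheaf.algebra_section_stalk X.presheaf (⟨x, hx⟩ : W)
  exact (ConcreteCategory.isIso_iff_bijective _).2 (IsLocalization.atUnits _ _ hu).bijective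

/-- The local ring at a point isolated in the closed fibre. -/
theorem local_finite_split (A : Type u) [CommRing A] [HenselianLocalRing A] (X : Scheme.{u})
    (f : X ⟶ Spec (CommRingCat.of A)) [LocallyOfFiniteType f] [IsSeparated f] (x : X)
    (hx : f x = closedPoint A)
    (hisol : IsOpen ((Subtype.val : (f ⁻¹' {closedPoint A}) → X) ⁻¹' {x})) :
    IsFinite (X.fromSpecStalk x ≫ f) ∧ IsOpenImmersion (X.fromSpecStalk x) ∧
      IsClosedImmersion (X.fromSpecStalk x) := by
  obtain ⟨O, hO, hOx⟩ := isOpen_induced_iff.1 hisol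
  have hxO : x ∈ O := by
    have : (⟨x, hx⟩ : f ⁻¹' {closedPoint A}) ∈ Subtype.val ⁻¹' O := by rw [hOx]; exact rfl
    exact this
  have hqf : f.QuasiFiniteAt x := by
    rw [Scheme.Hom.quasiFiniteAt_iff_isOpen_singleton_asFiber, ← (f.fiberHomeo (f x)).isOpen_image,
      Set.image_singleton]
    refine isOpen_induced_iff.2 ⟨O, hO, ?_⟩
    ext ⟨z, hz⟩
    have hz' : f z = closedPoint A := hz.trans hx
    have h1 : z ∈ O ↔ z = x := Set.ext_iff.1 hOx ⟨z, hz'⟩
    refine h1.trans ⟨fun h => ?_, fun h => ?_⟩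
    · subst h
      simp [Scheme.Hom.asFiber]
    · simp [Scheme.Hom.asFiber] at h; exact h
  obtain ⟨U, hU, hxU, hUle⟩ := exists_isAffineOpen_mem_and_subset (x := x)
    (U := f.quasiFiniteLocus ⊓ ⟨O, hO⟩) ⟨hqf, hxO⟩
  haveI : LocallyQuasiFinite (U.ι ≫ f) := by
    rw [← Scheme.Hom.quasiFiniteLocus_eq_top_iff, Scheme.Hom.quasiFiniteLocus_comp, eq_top_iff]
    exact fun p _ => (hUle p.2).1
  haveI : IsAffine U.toScheme := hU
  obtain ⟨W, -, hWfin, hWmem⟩ := QFCount.exists_finite_part (U.ι ≫ f)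
  let V : X.Opens := U.ι ''ᵁ W
  have hVfin : IsFinite (V.ι ≫ f) := by
    have e : (Scheme.Hom.isoImage U.ι W).inv ≫ W.ι ≫ U.ι = V.ι := by simp [V]
    rw [← e, Category.assoc, Category.assoc]
    exact (MorphismProperty.cancel_left_of_respectsIso @IsFinite _ _).2 hWfin
  have hxV : x ∈ V := ⟨⟨x, hxU⟩, hWmem _ hx, rfl⟩
  haveI : IsAffineHom (V.ι ≫ f) := inferInstance
  have hV : IsAffineOpen V := isAffine_of_isAffineHom (V.ι ≫ f)
  have hcl : ∀ w : V.toScheme, IsClosed ({w} : Set V.toScheme) → w.1 = x := fun w hw => by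
    have h1 : IsClosed ((V.ι ≫ f) '' {w}) := (V.ι ≫ f).isClosedMap _ hw
    rw [Set.image_singleton] at h1
    have h2 : (V.ι ≫ f) w = closedPoint A :=
      (h1.stableUnderSpecialization (specializes_closedPoint _) rfl : closedPoint A ∈ _).symm
    obtain ⟨u, -, hu⟩ : w.1 ∈ U.ι '' (W : Set U.toScheme) := w.2
    have hwO : w.1 ∈ O := hu ▸ (hUle u.2).2
    exact (Set.ext_iff.1 hOx ⟨w.1, h2⟩).1 hwO
  haveI := isIso_germ hV hxV hcl
  have e : Spec.map (X.presheaf.germ V x hxV) ≫ hV.fromSpec = X.fromSpecStalk x :=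
    hV.fromSpecStalk_eq_fromSpecStalk hxV
  let α := Spec.map (X.presheaf.germ V x hxV) ≫ hV.isoSpec.inv
  have e' : α ≫ V.ι = X.fromSpecStalk x := by rw [Category.assoc]; exact e
  haveI : IsFinite (V.ι ≫ f) := hVfin
  haveI : IsFinite V.ι := IsFinite.of_comp V.ι f
  haveI : IsClosedImmersion V.ι := .of_isPreimmersion _ (by
    rw [← Set.image_univ]; exact V.ι.isClosedMap _ isClosed_univ)
  refine ⟨?_, ?_, ?_⟩
  · rw [← e', Category.assoc]; infer_instance
  · rw [← e']; infer_instance
  · rw [← e']; infer_instance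

end Groth.Agent.CplSplit
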